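import Cfsg.Prelude.Def_ConjugacyFunctors
import Cfsg.Agent.Lib.Transfer.Fusion
import Cfsg.Agent.Lib.Coprime.Basic

/-!
# The K-infinity subgroups

* `kSeqOdd_antitone`, `kSeqEven_mono`, `exists_stable`, `kInfLower_eq_sSup`, `kInfUpper_eq_sSup`
* `map_kInfLower`, `map_kInfUpper`: if `f : Q → P` is injective and its range contains all terms of
  nonnegative index of the K-sequence of `P`, then it carries the K-infinity subgroups onto those of `P`
* `centralizer_kInfLower_le`, `centralizer_kInfUpper_le`, `isCharPFunctor_kInfLower`,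
  `isCharPFunctor_kInfUpper`
* `mem_families_of_normal_of_isMulCommutative`
-/

set_option autoImplicit false

namespace Cfsg.Agent.KInf

open scoped commutatorElement

universe u v

section Basic

variable {P : Type u} [Group P]

theorem mem_classTwo_iff {B : Subgroup P} :
    B ∈ Cfsg.classTwoSubgroups P ↔ ⁅B, B⁆ ≤ B ⊓ Subgroup.centralizer (B : Set P) :=
  ⟨fun h => le_inf (Subgroup.commutator_le_self B) h, fun h => h.trans inf_le_right⟩

theorem classTwo_of_isMulCommutative {A : Subgroup P} (hA : IsMulCommutative ↥A) :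
    A ∈ Cfsg.classTwoSubgroups P :=
  (Subgroup.commutator_le_self A).trans (Subgroup.le_centralizer A)

theorem bot_mem_classTwo : (⊥ : Subgroup P) ∈ Cfsg.classTwoSubgroups P := by
  show ⁅(⊥ : Subgroup P), (⊥ : Subgroup P)⁆ ≤ Subgroup.centralizer _
  rw [Subgroup.commutator_bot_left]
  exact bot_le

theorem bot_mem_upper (Q : Subgroup P) : (⊥ : Subgroup P) ∈ Cfsg.kUpperStarFamily Q := by
  refine ⟨bot_mem_classTwo, ?_⟩
  rw [Subgroup.commutator_bot_left]
  exact bot_le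

theorem bot_mem_lower (Q : Subgroup P) : (⊥ : Subgroup P) ∈ Cfsg.kLowerStarFamily Q := by
  refine ⟨bot_mem_classTwo, ?_, fun A _ _ _ _ _ => ?_⟩
  · intro q _
    rw [Subgroup.mem_normalizer_iff]
    intro h
    simp [Subgroup.mem_bot]
  · rw [Subgroup.commutator_bot_left]
    exact bot_le

theorem upper_antitone {Q R : Subgroup P} (h : Q ≤ R) :
    Cfsg.kUpperStarFamily R ⊆ Cfsg.kUpperStarFamily Q :=
  fun _ hB => ⟨hB.1, (Subgroup.commutator_mono le_rfl h).trans hB.2⟩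

theorem lower_antitone {Q R : Subgroup P} (h : Q ≤ R) :
    Cfsg.kLowerStarFamily R ⊆ Cfsg.kLowerStarFamily Q :=
  fun _ hB => ⟨hB.1, h.trans hB.2.1, fun A hA hAQ => hB.2.2 A hA (hAQ.trans h)⟩

theorem kSeqEven_eq (n : ℕ) :
    Cfsg.kSeqEven P n = sSup (Cfsg.kLowerStarFamily (Cfsg.kSeqOdd P n)) := rfl

theorem kSeqOdd_succ (n : ℕ) :
    Cfsg.kSeqOdd P (n + 1) = sSup (Cfsg.kUpperStarFamily (Cfsg.kSeqEven P n)) := rfl

theorem kSeqOdd_zero : Cfsg.kSeqOdd P 0 = ⊤ := rfl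

theorem kSeqOdd_succ_le : ∀ n, Cfsg.kSeqOdd P (n + 1) ≤ Cfsg.kSeqOdd P n
  | 0 => le_top
  | n + 1 => sSup_le_sSup (upper_antitone (sSup_le_sSup (lower_antitone (kSeqOdd_succ_le n))))

theorem kSeqEven_le_succ (n : ℕ) : Cfsg.kSeqEven P n ≤ Cfsg.kSeqEven P (n + 1) :=
  sSup_le_sSup (lower_antitone (kSeqOdd_succ_le n))

theorem kSeqOdd_antitone : Antitone (Cfsg.kSeqOdd P) := antitone_nat_of_succ_le kSeqOdd_succ_le

theorem kSeqEven_mono : Monotone (Cfsg.kSeqEven P) := monotone_nat_of_le_succ kSeqEven_le_succ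

theorem exists_stable [Finite P] : ∃ n, ∀ m, n ≤ m →
    Cfsg.kSeqEven P m = Cfsg.kInfLower P ∧ Cfsg.kSeqOdd P m = Cfsg.kInfUpper P := by
  classical
  have hex : ∃ c, ∃ n, Nat.card (Cfsg.kSeqOdd P n) = c := ⟨_, 0, rfl⟩
  obtain ⟨n, hn⟩ := Nat.find_spec hex
  have hodd : ∀ m, n ≤ m → Cfsg.kSeqOdd P m = Cfsg.kSeqOdd P n := fun m hm =>
    Subgroup.eq_of_le_of_card_ge (kSeqOdd_antitone hm) (hn ▸ Nat.find_min' hex ⟨m, rfl⟩)
  have heven : ∀ m, n ≤ m → Cfsg.kSeqEven P m = Cfsg.kSeqEven P n := fun m hm => by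
    rw [kSeqEven_eq, kSeqEven_eq, hodd m hm]
  have hL : Cfsg.kInfLower P = Cfsg.kSeqEven P n := by
    refine le_antisymm (iSup_le fun k => ?_) (le_iSup (Cfsg.kSeqEven P) n)
    rw [← heven (max n k) (le_max_left _ _)]
    exact kSeqEven_mono (le_max_right _ _)
  have hU : Cfsg.kInfUpper P = Cfsg.kSeqOdd P n := by
    refine le_antisymm (iInf_le (Cfsg.kSeqOdd P) n) (le_iInf fun k => ?_)
    rw [← hodd (max n k) (le_max_left _ _)]
    exact kSeqOdd_antitone (le_max_right _ _)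
  exact ⟨n, fun m hm => ⟨(heven m hm).trans hL.symm, (hodd m hm).trans hU.symm⟩⟩

theorem kInfLower_eq_sSup [Finite P] :
    Cfsg.kInfLower P = sSup (Cfsg.kLowerStarFamily (Cfsg.kInfUpper P)) := by
  obtain ⟨n, hn⟩ := exists_stable (P := P)
  rw [← (hn n le_rfl).1, ← (hn n le_rfl).2]
  rfl

theorem kInfUpper_eq_sSup [Finite P] :
    Cfsg.kInfUpper P = sSup (Cfsg.kUpperStarFamily (Cfsg.kInfLower P)) := by
  obtain ⟨n, hn⟩ := exists_stable (P := P)
  rw [← (hn (n + 1) (by omega)).2, ← (hn n le_rfl).1]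
  rfl

/-- A normal abelian subgroup belongs to every family. -/
theorem mem_families_of_normal_of_isMulCommutative {A : Subgroup P} [A.Normal]
    (hA : IsMulCommutative ↥A) (R : Subgroup P) :
    A ∈ Cfsg.kLowerStarFamily R ∧ A ∈ Cfsg.kUpperStarFamily R := by
  have h : ∀ X : Subgroup P, ⁅A, X⁆ ≤ A ⊓ Subgroup.centralizer (A : Set P) := fun X =>
    le_inf (Subgroup.commutator_le_left A X)
      ((Subgroup.commutator_le_left A X).trans (Subgroup.le_centralizer A))
  exact ⟨⟨classTwo_of_isMulCommutative hA, le_top.trans (Subgroup.normalizer_eq_top (H := A)).ge,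
    fun X _ _ _ _ _ => h X⟩, classTwo_of_isMulCommutative hA, h R⟩

theorem le_kSeq_of_normal_of_isMulCommutative {A : Subgroup P} [A.Normal]
    (hA : IsMulCommutative ↥A) (n : ℕ) :
    A ≤ Cfsg.kSeqEven P n ∧ A ≤ Cfsg.kSeqOdd P n := by
  refine ⟨le_sSup (mem_families_of_normal_of_isMulCommutative hA _).1, ?_⟩
  cases n with
  | zero => exact le_top
  | succ n => exact le_sSup (mem_families_of_normal_of_isMulCommutative hA _).2

end Basic

section Map

variable {P : Type u} [Group P] {Q : Type v} [Group Q] {f : Q →* P} (hf : Function.Injective f)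
include hf

theorem mem_normalizer_map_iff (B : Subgroup Q) (q : Q) :
    f q ∈ Subgroup.normalizer ((B.map f : Subgroup P) : Set P) ↔
      q ∈ Subgroup.normalizer (B : Set Q) := by
  simp only [Subgroup.mem_normalizer_iff]
  constructor
  · intro h a
    rw [← Subgroup.mem_map_iff_mem hf, h (f a), ← Subgroup.mem_map_iff_mem hf (K := B)]
    simp
  · intro h x
    constructor
    · rintro ⟨a, ha, rfl⟩
      exact ⟨q * a * q⁻¹, (h a).mp ha, by simp⟩
    · rintro ⟨a, ha, hax⟩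
      refine ⟨q⁻¹ * a * q, (h _).mpr (by simpa [mul_assoc] using ha), ?_⟩
      rw [map_mul, map_mul, hax, map_inv]
      group

theorem le_normalizer_map_iff (X B : Subgroup Q) :
    X.map f ≤ Subgroup.normalizer ((B.map f : Subgroup P) : Set P) ↔
      X ≤ Subgroup.normalizer (B : Set Q) := by
  rw [Subgroup.map_le_iff_le_comap]
  exact ⟨fun h x hx => (mem_normalizer_map_iff hf B x).mp (h hx),
    fun h x hx => (mem_normalizer_map_iff hf B x).mpr (h hx)⟩

theorem map_inf_centralizer (B : Subgroup Q) :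
    (B ⊓ Subgroup.centralizer (B : Set Q)).map f =
      B.map f ⊓ Subgroup.centralizer ((B.map f : Subgroup P) : Set P) := by
  ext x
  constructor
  · rintro ⟨a, ⟨ha, hac⟩, rfl⟩
    refine ⟨⟨a, ha, rfl⟩, ?_⟩
    rintro _ ⟨b, hb, rfl⟩
    rw [← map_mul, ← map_mul, hac b hb]
  · rintro ⟨⟨a, ha, rfl⟩, hc⟩
    refine ⟨a, ⟨ha, fun b hb => hf ?_⟩, rfl⟩
    rw [map_mul, map_mul]
    exact hc _ ⟨b, hb, rfl⟩

theorem map_mem_classTwo_iff (B : Subgroup Q) :
    B.map f ∈ Cfsg.classTwoSubgroups P ↔ B ∈ Cfsg.classTwoSubgroups Q := by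
  rw [mem_classTwo_iff, mem_classTwo_iff, ← Subgroup.map_commutator, ← map_inf_centralizer hf,
    Subgroup.map_le_map_iff_of_injective hf]

theorem map_mem_upper_iff (B R : Subgroup Q) :
    B.map f ∈ Cfsg.kUpperStarFamily (R.map f) ↔ B ∈ Cfsg.kUpperStarFamily R := by
  refine and_congr (map_mem_classTwo_iff hf B) ?_
  rw [← Subgroup.map_commutator, ← map_inf_centralizer hf, Subgroup.map_le_map_iff_of_injective hf]

theorem map_mem_lower_iff (B R : Subgroup Q) :
    B.map f ∈ Cfsg.kLowerStarFamily (R.map f) ↔ B ∈ Cfsg.kLowerStarFamily R := by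
  have htest : ∀ A : Subgroup Q,
      (A.map f ≤ R.map f ↔ A ≤ R) ∧
      (⁅B.map f, ⁅A.map f, A.map f⁆⁆ = ⊥ ↔ ⁅B, ⁅A, A⁆⁆ = ⊥) ∧
      (⁅⁅B.map f ⊓ Subgroup.centralizer ((B.map f : Subgroup P) : Set P), A.map f⁆, A.map f⁆ = ⊥ ↔
        ⁅⁅B ⊓ Subgroup.centralizer (B : Set Q), A⁆, A⁆ = ⊥) ∧
      (⁅B.map f, A.map f⁆ ≤ B.map f ⊓ Subgroup.centralizer ((B.map f : Subgroup P) : Set P) ↔
        ⁅B, A⁆ ≤ B ⊓ Subgroup.centralizer (B : Set Q)) := by
    intro A
    simp only [← map_inf_centralizer hf, ← Subgroup.map_commutator,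
      Subgroup.map_eq_bot_iff_of_injective _ hf, Subgroup.map_le_map_iff_of_injective hf, and_self]
  refine and_congr (map_mem_classTwo_iff hf B) (and_congr (le_normalizer_map_iff hf R B) ?_)
  constructor
  · intro h A hA hAR hBA h1 h2
    obtain ⟨e1, e2, e3, e4⟩ := htest A
    exact e4.mp (h _ ((map_mem_classTwo_iff hf A).mpr hA) (e1.mpr hAR)
      ((le_normalizer_map_iff hf B A).mpr hBA) (e2.mpr h1) (e3.mpr h2))
  · intro h A hA hAR hBA h1 h2
    obtain ⟨A, rfl⟩ : ∃ A' : Subgroup Q, A'.map f = A :=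
      ⟨A.comap f, Subgroup.map_comap_eq_self (hAR.trans (Subgroup.map_le_range f R))⟩
    obtain ⟨e1, e2, e3, e4⟩ := htest A
    exact e4.mpr (h A ((map_mem_classTwo_iff hf A).mp hA) (e1.mp hAR)
      ((le_normalizer_map_iff hf B A).mp hBA) (e2.mp h1) (e3.mp h2))

theorem map_sSup_lower (R : Subgroup Q) :
    (sSup (Cfsg.kLowerStarFamily R)).map f =
      sSup {B | B ∈ Cfsg.kLowerStarFamily (R.map f) ∧ B ≤ f.range} := by
  rw [(Subgroup.gc_map_comap f).l_sSup, ← sSup_image]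
  congr 1
  ext B
  constructor
  · rintro ⟨A, hA, rfl⟩
    exact ⟨(map_mem_lower_iff hf A R).mpr hA, Subgroup.map_le_range f A⟩
  · rintro ⟨hB, hBr⟩
    have h := Subgroup.map_comap_eq_self hBr
    exact ⟨B.comap f, (map_mem_lower_iff hf _ R).mp (h.symm ▸ hB), h⟩

theorem map_sSup_upper (R : Subgroup Q) :
    (sSup (Cfsg.kUpperStarFamily R)).map f =
      sSup {B | B ∈ Cfsg.kUpperStarFamily (R.map f) ∧ B ≤ f.range} := by
  rw [(Subgroup.gc_map_comap f).l_sSup, ← sSup_image]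
  congr 1
  ext B
  constructor
  · rintro ⟨A, hA, rfl⟩
    exact ⟨(map_mem_upper_iff hf A R).mpr hA, Subgroup.map_le_range f A⟩
  · rintro ⟨hB, hBr⟩
    have h := Subgroup.map_comap_eq_self hBr
    exact ⟨B.comap f, (map_mem_upper_iff hf _ R).mp (h.symm ▸ hB), h⟩

variable (hr : ∀ n : ℕ, Cfsg.kSeqEven P n ≤ f.range ∧ Cfsg.kSeqOdd P (n + 1) ≤ f.range)
include hr

theorem interleave_left (n : ℕ) :
    (Cfsg.kSeqOdd Q n).map f ≤ Cfsg.kSeqOdd P n ∧
      Cfsg.kSeqEven P n ≤ (Cfsg.kSeqEven Q n).map f := by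
  have step : ∀ n, (Cfsg.kSeqOdd Q n).map f ≤ Cfsg.kSeqOdd P n →
      Cfsg.kSeqEven P n ≤ (Cfsg.kSeqEven Q n).map f := by
    intro n h
    rw [kSeqEven_eq (P := Q), map_sSup_lower hf]
    exact sSup_le_sSup fun B hB => ⟨lower_antitone h hB, (le_sSup hB).trans (hr n).1⟩
  induction n with
  | zero => exact ⟨le_top, step 0 le_top⟩
  | succ n ih =>
    have h : (Cfsg.kSeqOdd Q (n + 1)).map f ≤ Cfsg.kSeqOdd P (n + 1) := by
      rw [kSeqOdd_succ (P := Q), map_sSup_upper hf]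
      exact sSup_le_sSup fun B hB => upper_antitone ih.2 hB.1
    exact ⟨h, step (n + 1) h⟩

theorem interleave_right (n : ℕ) :
    Cfsg.kSeqOdd P (n + 1) ≤ (Cfsg.kSeqOdd Q n).map f ∧
      (Cfsg.kSeqEven Q n).map f ≤ Cfsg.kSeqEven P (n + 1) := by
  have step : ∀ n, Cfsg.kSeqOdd P (n + 1) ≤ (Cfsg.kSeqOdd Q n).map f →
      (Cfsg.kSeqEven Q n).map f ≤ Cfsg.kSeqEven P (n + 1) := by
    intro n h
    rw [kSeqEven_eq (P := Q), map_sSup_lower hf]
    exact sSup_le_sSup fun B hB => lower_antitone h hB.1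
  induction n with
  | zero =>
    have h : Cfsg.kSeqOdd P 1 ≤ (Cfsg.kSeqOdd Q 0).map f := by
      rw [kSeqOdd_zero, ← MonoidHom.range_eq_map]
      exact (hr 0).2
    exact ⟨h, step 0 h⟩
  | succ n ih =>
    have h : Cfsg.kSeqOdd P (n + 2) ≤ (Cfsg.kSeqOdd Q (n + 1)).map f := by
      rw [kSeqOdd_succ (P := Q), map_sSup_upper hf]
      exact sSup_le_sSup fun B hB => ⟨upper_antitone ih.2 hB, (le_sSup hB).trans (hr (n + 1)).2⟩
    exact ⟨h, step (n + 1) h⟩

variable [Finite P] [Finite Q]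

theorem map_kInfLower : (Cfsg.kInfLower Q).map f = Cfsg.kInfLower P := by
  obtain ⟨a, ha⟩ := exists_stable (P := P)
  obtain ⟨b, hb⟩ := exists_stable (P := Q)
  rw [← (hb (a + b) (by omega)).1]
  refine le_antisymm ?_ ?_
  · rw [← (ha (a + b + 1) (by omega)).1]
    exact (interleave_right hf hr _).2
  · rw [← (ha (a + b) (by omega)).1]
    exact (interleave_left hf hr _).2

theorem map_kInfUpper : (Cfsg.kInfUpper Q).map f = Cfsg.kInfUpper P := by
  obtain ⟨a, ha⟩ := exists_stable (P := P)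
  obtain ⟨b, hb⟩ := exists_stable (P := Q)
  rw [← (hb (a + b) (by omega)).2]
  refine le_antisymm ?_ ?_
  · rw [← (ha (a + b) (by omega)).2]
    exact (interleave_left hf hr _).1
  · rw [← (ha (a + b + 1) (by omega)).2]
    exact (interleave_right hf hr _).1

end Map

section Iso

variable {P : Type u} [Group P] {Q : Type v} [Group Q] [Finite Q]

omit [Finite Q] in
theorem range_equiv_hr (e : Q ≃* P) (n : ℕ) :
    Cfsg.kSeqEven P n ≤ e.toMonoidHom.range ∧ Cfsg.kSeqOdd P (n + 1) ≤ e.toMonoidHom.range := by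
  have h : e.toMonoidHom.range = ⊤ := MonoidHom.range_eq_top.mpr e.surjective
  rw [h]
  exact ⟨le_top, le_top⟩

theorem map_kInfLower_equiv (e : Q ≃* P) :
    (Cfsg.kInfLower Q).map e.toMonoidHom = Cfsg.kInfLower P :=
  haveI : Finite P := Finite.of_equiv Q e.toEquiv
  map_kInfLower e.injective (range_equiv_hr e)

theorem map_kInfUpper_equiv (e : Q ≃* P) :
    (Cfsg.kInfUpper Q).map e.toMonoidHom = Cfsg.kInfUpper P :=
  haveI : Finite P := Finite.of_equiv Q e.toEquiv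
  map_kInfUpper e.injective (range_equiv_hr e)

theorem kInfLower_characteristic : (Cfsg.kInfLower Q).Characteristic :=
  Subgroup.characteristic_iff_map_eq.mpr fun e => map_kInfLower_equiv e

theorem kInfUpper_characteristic : (Cfsg.kInfUpper Q).Characteristic :=
  Subgroup.characteristic_iff_map_eq.mpr fun e => map_kInfUpper_equiv e

end Iso

section Centralizer

variable {P : Type u} [Group P] [Finite P] {p : ℕ} [Fact p.Prime]

omit [Finite P] in
theorem conj_mem_centralizer {B : Subgroup P} {r : P} (hr : r ∈ Subgroup.normalizer (B : Set P))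
    {x : P} (hx : x ∈ Subgroup.centralizer (B : Set P)) :
    r * x * r⁻¹ ∈ Subgroup.centralizer (B : Set P) := by
  intro b hb
  have h1 : r⁻¹ * b * r ∈ B := (Subgroup.mem_normalizer_iff''.mp hr b).mp hb
  have h2 := hx _ h1
  calc b * (r * x * r⁻¹) = r * (r⁻¹ * b * r * x) * r⁻¹ := by group
    _ = r * (x * (r⁻¹ * b * r)) * r⁻¹ := by rw [h2]
    _ = r * x * r⁻¹ * b := by group

/-- If `Q` normalizes `B` and `C(B)` is not inside `B`, some element of `C(B)` outside `B` is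
centralized by `Q` modulo `B`. -/
theorem exists_centralizer_step (hP : IsPGroup p P) {B Q : Subgroup P}
    (hQ : Q ≤ Subgroup.normalizer (B : Set P)) (h : ¬ Subgroup.centralizer (B : Set P) ≤ B) :
    ∃ x ∈ Subgroup.centralizer (B : Set P), x ∉ B ∧ ∀ q ∈ Q, ⁅x, q⁆ ∈ B := by
  classical
  haveI := hP.isNilpotent
  set C := Subgroup.centralizer (B : Set P) with hCdef
  have hQC : Q ≤ Subgroup.normalizer (C : Set P) := fun q hq => by
    rw [Subgroup.mem_normalizer_iff]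
    intro x
    refine ⟨conj_mem_centralizer (hQ hq), fun hx => ?_⟩
    have := conj_mem_centralizer (inv_mem (hQ hq)) hx
    simpa [mul_assoc] using this
  let good : Set (Subgroup P) := {D | D ≤ C ∧ Q ≤ Subgroup.normalizer (D : Set P) ∧ ¬ D ≤ B}
  have hne : good.Nonempty := ⟨C, le_rfl, hQC, h⟩
  obtain ⟨D, hmin⟩ := (Set.toFinite good).exists_minimal hne
  obtain ⟨hDC, hQD, hDB⟩ := hmin.prop
  have hnorm : Q ≤ Subgroup.normalizer ((⁅D, Q⁆ : Subgroup P) : Set P) := by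
    intro q hq
    rw [Subgroup.mem_normalizer_iff]
    have hmap : ∀ r ∈ Q, ∀ x ∈ ⁅D, Q⁆, r * x * r⁻¹ ∈ ⁅D, Q⁆ := by
      intro r hr x hx
      have : (⁅D, Q⁆).map (MulAut.conj r).toMonoidHom ≤ ⁅D, Q⁆ := by
        rw [Subgroup.map_commutator]
        refine Subgroup.commutator_mono ?_ ?_
        · rintro _ ⟨d, hd, rfl⟩
          exact (Subgroup.mem_normalizer_iff.mp (hQD hr) d).mp hd
        · rintro _ ⟨d, hd, rfl⟩
          exact mul_mem (mul_mem hr hd) (inv_mem hr)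
      exact this ⟨x, hx, rfl⟩
    intro x
    refine ⟨hmap q hq x, fun hx => ?_⟩
    have := hmap q⁻¹ (inv_mem hq) _ hx
    simpa [mul_assoc] using this
  have hle : ⁅D, Q⁆ ≤ D := by
    rw [Subgroup.commutator_le]
    intro d hd q hq
    rw [commutatorElement_def, mul_assoc, mul_assoc]
    refine mul_mem hd ?_
    rw [← mul_assoc]
    exact (Subgroup.mem_normalizer_iff.mp (hQD hq) d⁻¹).mp (inv_mem hd)
  have hDQB : ⁅D, Q⁆ ≤ B := by
    by_contra hcon
    have h2 : D ≤ ⁅D, Q⁆ := hmin.le_of_le ⟨hle.trans hDC, hnorm, hcon⟩ hle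
    have h3 : ∀ n, D ≤ (⊤ : Subgroup P).lowerCentralSeries n :=
      Transfer.le_lowerCentralSeries_of_le_commutator
        (h2.trans (Subgroup.commutator_mono le_rfl le_top))
    obtain ⟨n, hn⟩ := Subgroup.nilpotent_iff_lowerCentralSeries.mp (inferInstance : Group.IsNilpotent P)
    exact hDB ((h3 n).trans (hn ▸ bot_le))
  obtain ⟨x, hxD, hxB⟩ := SetLike.not_le_iff_exists.mp hDB
  exact ⟨x, hDC hxD, hxB, fun q hq => hDQB (Subgroup.commutator_mem_commutator hxD hq)⟩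

omit [Finite P] in
theorem le_normalizer_of_commutator_le {B Q : Subgroup P} (h : ⁅B, Q⁆ ≤ B) :
    Q ≤ Subgroup.normalizer (B : Set P) := by
  have key : ∀ q ∈ Q, ∀ b ∈ B, q * b * q⁻¹ ∈ B := by
    intro q hq b hb
    have h1 := h (Subgroup.commutator_mem_commutator (inv_mem hb) hq)
    have h2 : q * b * q⁻¹ = b * ⁅b⁻¹, q⁆ := by
      rw [commutatorElement_def]
      group
    rw [h2]
    exact mul_mem hb h1
  intro q hq
  rw [Subgroup.mem_normalizer_iff]
  intro b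
  refine ⟨key q hq b, fun hb => ?_⟩
  have := key q⁻¹ (inv_mem hq) _ hb
  simpa [mul_assoc] using this

omit [Finite P] in
/-- Adjoining an element centralizing `B` keeps class at most two. -/
theorem classTwo_sup_zpowers {B : Subgroup P} (hB : B ∈ Cfsg.classTwoSubgroups P) {x : P}
    (hx : x ∈ Subgroup.centralizer (B : Set P)) :
    B ⊔ Subgroup.zpowers x ∈ Cfsg.classTwoSubgroups P ∧
      (B ⊓ Subgroup.centralizer (B : Set P)) ⊔ Subgroup.zpowers x ≤
        Subgroup.centralizer ((B ⊔ Subgroup.zpowers x : Subgroup P) : Set P) := by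
  have hxB : Subgroup.zpowers x ≤ Subgroup.centralizer (B : Set P) := Subgroup.zpowers_le.mpr hx
  have hBx : B ≤ Subgroup.centralizer ((Subgroup.zpowers x : Subgroup P) : Set P) :=
    Subgroup.le_centralizer_iff.mp hxB
  have hxn : Subgroup.zpowers x ≤ Subgroup.normalizer (B : Set P) :=
    hxB.trans (Subgroup.centralizer_le_normalizer _)
  have hZ : (B ⊓ Subgroup.centralizer (B : Set P)) ⊔ Subgroup.zpowers x ≤
      Subgroup.centralizer ((B ⊔ Subgroup.zpowers x : Subgroup P) : Set P) := by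
    rw [Subgroup.le_centralizer_iff]
    refine sup_le ?_ ?_ <;> rw [Subgroup.le_centralizer_iff]
    · exact sup_le inf_le_right hxB
    · exact sup_le (inf_le_left.trans hBx) (Subgroup.le_centralizer _)
  refine ⟨?_, hZ⟩
  show ⁅B ⊔ Subgroup.zpowers x, B ⊔ Subgroup.zpowers x⁆ ≤ _
  refine le_trans ?_ (le_sup_left.trans hZ)
  rw [Subgroup.commutator_le]
  intro a ha b hb
  obtain ⟨c, hc, b₁, hb₁, rfl⟩ := (Coprime.mem_sup_iff_of_le_normalizer hxn).mp (sup_comm B _ ▸ ha)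
  obtain ⟨d, hd, b₂, hb₂, rfl⟩ := (Coprime.mem_sup_iff_of_le_normalizer hxn).mp (sup_comm B _ ▸ hb)
  have hcb : ∀ e ∈ Subgroup.zpowers x, ∀ y ∈ B, y * e = e * y := fun e he y hy => hxB he y hy
  have hcd : c * d = d * c := (Subgroup.le_centralizer (Subgroup.zpowers x) hd c hc)
  have h : ⁅c * b₁, d * b₂⁆ = ⁅b₁, b₂⁆ := by
    have e1 : Commute c b₁ := (hcb c hc b₁ hb₁).symm
    have e2 : Commute c b₂ := (hcb c hc b₂ hb₂).symm
    have e3 : Commute d b₁ := (hcb d hd b₁ hb₁).symm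
    have e4 : Commute d b₂ := (hcb d hd b₂ hb₂).symm
    have e5 : Commute c d := hcd
    simp only [commutatorElement_def, mul_inv_rev]
    calc c * b₁ * (d * b₂) * (b₁⁻¹ * c⁻¹) * (b₂⁻¹ * d⁻¹)
        = c * (b₁ * d) * b₂ * b₁⁻¹ * (c⁻¹ * b₂⁻¹) * d⁻¹ := by group
      _ = c * (d * b₁) * b₂ * b₁⁻¹ * (b₂⁻¹ * c⁻¹) * d⁻¹ := by
          rw [e3.eq, e2.inv_inv.eq]
      _ = c * d * (b₁ * b₂ * b₁⁻¹ * b₂⁻¹) * (c⁻¹ * d⁻¹) := by group
      _ = (b₁ * b₂ * b₁⁻¹ * b₂⁻¹) * (c * d) * (c⁻¹ * d⁻¹) := by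
          have h1 : Commute (c * d) (b₁ * b₂ * b₁⁻¹ * b₂⁻¹) :=
            ((Commute.mul_left e1 e3).mul_right (Commute.mul_left e2 e4)).mul_right
              (Commute.mul_left e1 e3).inv_right |>.mul_right (Commute.mul_left e2 e4).inv_right
          rw [h1.eq]
      _ = b₁ * b₂ * b₁⁻¹ * b₂⁻¹ := by
          rw [mul_assoc, show c * d * (c⁻¹ * d⁻¹) = 1 by rw [hcd]; group, mul_one]
  rw [h]
  exact mem_classTwo_iff.mp hB (Subgroup.commutator_mem_commutator hb₁ hb₂)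

omit [Finite P] in
theorem commutator_mem_of_step {B : Subgroup P} {x a : P}
    (hx : x ∈ Subgroup.centralizer (B : Set P)) (ha : a ∈ Subgroup.normalizer (B : Set P))
    (h : ⁅x, a⁆ ∈ B) {c : P} (hc : c ∈ Subgroup.zpowers x) :
    ⁅c, a⁆ ∈ B ⊓ Subgroup.centralizer (B : Set P) := by
  obtain ⟨k, rfl⟩ := hc
  have he : ⁅x, a⁆ ∈ B ⊓ Subgroup.centralizer (B : Set P) := by
    refine ⟨h, ?_⟩
    rw [commutatorElement_def, mul_assoc, mul_assoc]
    refine mul_mem hx ?_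
    rw [← mul_assoc]
    exact conj_mem_centralizer ha (inv_mem hx)
  set e := ⁅x, a⁆ with hedef
  have hcomm : Commute e⁻¹ x := Commute.inv_left (a := e) (hx e he.1)
  have h1 : a * x * a⁻¹ = e⁻¹ * x := by
    rw [hedef, commutatorElement_def]
    group
  have h2 : a * x ^ k * a⁻¹ = (e⁻¹) ^ k * x ^ k := by
    rw [← hcomm.mul_zpow, ← h1, conj_zpow]
  have h3 : ⁅x ^ k, a⁆ = e ^ k := by
    have h4 : a * (x ^ k)⁻¹ * a⁻¹ = (x ^ k)⁻¹ * e ^ k := by
      calc a * (x ^ k)⁻¹ * a⁻¹ = (a * x ^ k * a⁻¹)⁻¹ := by group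
        _ = ((e⁻¹) ^ k * x ^ k)⁻¹ := by rw [h2]
        _ = (x ^ k)⁻¹ * e ^ k := by rw [mul_inv_rev, inv_zpow, inv_inv]
    calc ⁅x ^ k, a⁆ = x ^ k * (a * (x ^ k)⁻¹ * a⁻¹) := by rw [commutatorElement_def]; group
      _ = e ^ k := by rw [h4, mul_inv_cancel_left]
  rw [h3]
  exact zpow_mem he k

omit [Finite P] in
theorem sup_zpowers_commutator_le {B A : Subgroup P} {x : P}
    (hx : x ∈ Subgroup.centralizer (B : Set P)) (hA : A ≤ Subgroup.normalizer (B : Set P))
    (h : ∀ a ∈ A, ⁅x, a⁆ ∈ B) (hB : ⁅B, A⁆ ≤ B ⊓ Subgroup.centralizer (B : Set P)) :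
    ⁅B ⊔ Subgroup.zpowers x, A⁆ ≤ B ⊓ Subgroup.centralizer (B : Set P) := by
  rw [Subgroup.commutator_le]
  intro y hy a ha
  have hxn : Subgroup.zpowers x ≤ Subgroup.normalizer (B : Set P) :=
    (Subgroup.zpowers_le.mpr hx).trans (Subgroup.centralizer_le_normalizer _)
  obtain ⟨c, hc, b, hb, rfl⟩ := (Coprime.mem_sup_iff_of_le_normalizer hxn).mp (sup_comm B _ ▸ hy)
  have hcz : c * ⁅b, a⁆ * c⁻¹ = ⁅b, a⁆ := by
    rw [← (Subgroup.zpowers_le.mpr hx hc ⁅b, a⁆ (hB (Subgroup.commutator_mem_commutator hb ha)).1 :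
      ⁅b, a⁆ * c = c * ⁅b, a⁆), mul_inv_cancel_right]
  have : ⁅c * b, a⁆ = c * ⁅b, a⁆ * c⁻¹ * ⁅c, a⁆ := by
    simp only [commutatorElement_def]
    group
  rw [this, hcz]
  exact mul_mem (hB (Subgroup.commutator_mem_commutator hb ha))
    (commutator_mem_of_step hx (hA ha) (h a ha) hc)

omit [Finite P] in
theorem centralizer_le_of_maximal_classTwo {B : Subgroup P}
    (hB : B ∈ Cfsg.classTwoSubgroups P)
    (hmax : ∀ C ∈ Cfsg.classTwoSubgroups P, B ≤ C → C = B) :
    Subgroup.centralizer (B : Set P) ≤ B := by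
  intro x hx
  have := hmax _ (classTwo_sup_zpowers hB hx).1 le_sup_left
  exact this ▸ (le_sup_right : Subgroup.zpowers x ≤ _) (Subgroup.mem_zpowers x)

theorem centralizer_le_of_maximal_upper (hP : IsPGroup p P) {Q B : Subgroup P}
    (hB : B ∈ Cfsg.kUpperStarFamily Q)
    (hmax : ∀ C ∈ Cfsg.kUpperStarFamily Q, B ≤ C → C = B) :
    Subgroup.centralizer (B : Set P) ≤ B := by
  by_contra hcon
  have hQB : Q ≤ Subgroup.normalizer (B : Set P) := le_normalizer_of_commutator_le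
    (hB.2.trans inf_le_left)
  obtain ⟨x, hxC, hxB, hxQ⟩ := exists_centralizer_step hP hQB hcon
  obtain ⟨hclass, hZ⟩ := classTwo_sup_zpowers hB.1 hxC
  have hmem : B ⊔ Subgroup.zpowers x ∈ Cfsg.kUpperStarFamily Q :=
    ⟨hclass, (sup_zpowers_commutator_le hxC hQB hxQ hB.2).trans
      (le_inf (inf_le_left.trans le_sup_left) (le_sup_left.trans hZ))⟩
  exact hxB (hmax _ hmem le_sup_left ▸ (le_sup_right : Subgroup.zpowers x ≤ _)
    (Subgroup.mem_zpowers x))

theorem centralizer_le_of_maximal_lower (hP : IsPGroup p P) {Q B : Subgroup P}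
    (hB : B ∈ Cfsg.kLowerStarFamily Q)
    (hmax : ∀ C ∈ Cfsg.kLowerStarFamily Q, B ≤ C → C = B) :
    Subgroup.centralizer (B : Set P) ≤ B := by
  by_contra hcon
  obtain ⟨hBc, hQB, htest⟩ := hB
  obtain ⟨x, hxC, hxB, hxQ⟩ := exists_centralizer_step hP hQB hcon
  obtain ⟨hclass, hZ⟩ := classTwo_sup_zpowers hBc hxC
  have hQN : Q ≤ Subgroup.normalizer ((B ⊔ Subgroup.zpowers x : Subgroup P) : Set P) := by
    refine le_normalizer_of_commutator_le ?_
    rw [Subgroup.commutator_le]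
    intro y hy q hq
    have hxn : Subgroup.zpowers x ≤ Subgroup.normalizer (B : Set P) :=
      (Subgroup.zpowers_le.mpr hxC).trans (Subgroup.centralizer_le_normalizer _)
    obtain ⟨c, hc, b, hb, rfl⟩ := (Coprime.mem_sup_iff_of_le_normalizer hxn).mp (sup_comm B _ ▸ hy)
    have h1 : ⁅c * b, q⁆ = c * ⁅b, q⁆ * c⁻¹ * ⁅c, q⁆ := by
      simp only [commutatorElement_def]
      group
    have h2 : ⁅b, q⁆ ∈ B := by
      rw [commutatorElement_def, mul_assoc, mul_assoc]
      refine mul_mem hb ?_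
      rw [← mul_assoc]
      exact (Subgroup.mem_normalizer_iff.mp (hQB hq) b⁻¹).mp (inv_mem hb)
    rw [h1]
    refine mul_mem (mul_mem (mul_mem (Subgroup.mem_sup_right hc) (Subgroup.mem_sup_left h2))
      (inv_mem (Subgroup.mem_sup_right hc))) (Subgroup.mem_sup_left ?_)
    exact (commutator_mem_of_step hxC (hQB hq) (hxQ q hq) hc).1
  have hmem : B ⊔ Subgroup.zpowers x ∈ Cfsg.kLowerStarFamily Q := by
    refine ⟨hclass, hQN, fun A hA hAQ hBA h1 h2 => ?_⟩
    have hle : B ⊓ Subgroup.centralizer (B : Set P) ≤ (B ⊔ Subgroup.zpowers x) ⊓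
        Subgroup.centralizer ((B ⊔ Subgroup.zpowers x : Subgroup P) : Set P) :=
      le_inf (inf_le_left.trans le_sup_left) (le_sup_left.trans hZ)
    have h3 : ⁅B, A⁆ ≤ B ⊓ Subgroup.centralizer (B : Set P) :=
      htest A hA hAQ (le_sup_left.trans hBA)
        (le_bot_iff.mp ((Subgroup.commutator_mono le_sup_left le_rfl).trans h1.le))
        (le_bot_iff.mp ((Subgroup.commutator_mono (Subgroup.commutator_mono hle le_rfl)
          le_rfl).trans h2.le))
    exact (sup_zpowers_commutator_le hxC (hAQ.trans hQB) (fun a ha => hxQ a (hAQ ha)) h3).trans hle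
  exact hxB (hmax _ hmem le_sup_left ▸ (le_sup_right : Subgroup.zpowers x ≤ _)
    (Subgroup.mem_zpowers x))

theorem centralizer_kInfLower_le (hP : IsPGroup p P) :
    Subgroup.centralizer (Cfsg.kInfLower P : Set P) ≤ Cfsg.kInfLower P := by
  rw [kInfLower_eq_sSup]
  obtain ⟨B, hB⟩ := (Set.toFinite (Cfsg.kLowerStarFamily (Cfsg.kInfUpper P))).exists_maximal
    ⟨⊥, bot_mem_lower _⟩
  exact (Subgroup.centralizer_le (SetLike.coe_subset_coe.mpr (le_sSup hB.prop))).trans ((centralizer_le_of_maximal_lower hP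
    hB.prop fun C hC hBC => le_antisymm (hB.le_of_ge hC hBC) hBC).trans (le_sSup hB.prop))

theorem centralizer_kInfUpper_le (hP : IsPGroup p P) :
    Subgroup.centralizer (Cfsg.kInfUpper P : Set P) ≤ Cfsg.kInfUpper P := by
  rw [kInfUpper_eq_sSup]
  obtain ⟨B, hB⟩ := (Set.toFinite (Cfsg.kUpperStarFamily (Cfsg.kInfLower P))).exists_maximal
    ⟨⊥, bot_mem_upper _⟩
  exact (Subgroup.centralizer_le (SetLike.coe_subset_coe.mpr (le_sSup hB.prop))).trans ((centralizer_le_of_maximal_upper hP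
    hB.prop fun C hC hBC => le_antisymm (hB.le_of_ge hC hBC) hBC).trans (le_sSup hB.prop))

theorem center_le_kInfLower (hP : IsPGroup p P) : Subgroup.center P ≤ Cfsg.kInfLower P :=
  (Subgroup.center_le_centralizer _).trans (centralizer_kInfLower_le hP)

theorem center_le_kInfUpper (hP : IsPGroup p P) : Subgroup.center P ≤ Cfsg.kInfUpper P :=
  (Subgroup.center_le_centralizer _).trans (centralizer_kInfUpper_le hP)

end Centralizer

section Functor

variable {p : ℕ} [Fact p.Prime]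

theorem isCharPFunctor_kInfLower : Cfsg.IsCharPFunctor.{u} p Cfsg.kInfLower := by
  refine ⟨fun Q _ _ hQ _ h => ?_, fun Q R _ _ _ _ φ => map_kInfLower_equiv φ⟩
  have := hQ.center_nontrivial
  exact (Subgroup.nontrivial_iff_ne_bot _).mp this
    (le_bot_iff.mp (h ▸ center_le_kInfLower hQ))

theorem isCharPFunctor_kInfUpper : Cfsg.IsCharPFunctor.{u} p Cfsg.kInfUpper := by
  refine ⟨fun Q _ _ hQ _ h => ?_, fun Q R _ _ _ _ φ => map_kInfUpper_equiv φ⟩
  have := hQ.center_nontrivial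
  exact (Subgroup.nontrivial_iff_ne_bot _).mp this
    (le_bot_iff.mp (h ▸ center_le_kInfUpper hQ))

end Functor

end Cfsg.Agent.KInf
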